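import Mathlib

set_option autoImplicit false
universe u

namespace Groth.Agent.Lib.Helper5.NodeApprox

variable {A B : Type u} [CommRing A] [IsLocalRing A] [CommRing B] [IsLocalRing B] [Algebra A B]
  [IsLocalHom (algebraMap A B)]

local notation "mA" => IsLocalRing.maximalIdeal A
local notation "mB" => IsLocalRing.maximalIdeal B
local notation "ι" => algebraMap A B

/-- decomposition of elements of `B` -/
theorem decomp (hres : Function.Surjective (IsLocalRing.ResidueField.map (algebraMap A B)))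
    (u v : B)
    (hgen : IsLocalRing.maximalIdeal B = Ideal.span {u, v} ⊔ (IsLocalRing.maximalIdeal A).map (algebraMap A B))
    (u' v' : B) (hu' : u' - u ∈ (IsLocalRing.maximalIdeal A).map (algebraMap A B))
    (hv' : v' - v ∈ (IsLocalRing.maximalIdeal A).map (algebraMap A B)) (b : B) :
    ∃ (a : A) (c d : B), b - (algebraMap A B a + u' * c + v' * d) ∈
      (IsLocalRing.maximalIdeal A).map (algebraMap A B) := by
  obtain ⟨a', ha'⟩ := hres (IsLocalRing.residue B b)
  obtain ⟨a, rfl⟩ := IsLocalRing.residue_surjective a'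
  rw [IsLocalRing.ResidueField.map_residue] at ha'
  have h1 : b - algebraMap A B a ∈ IsLocalRing.maximalIdeal B := by
    rw [← IsLocalRing.residue_eq_zero_iff, map_sub, ha', sub_self]
  rw [hgen, Submodule.mem_sup] at h1
  obtain ⟨y, hy, e, he, hye⟩ := h1
  rw [Ideal.mem_span_pair] at hy
  obtain ⟨c, d, rfl⟩ := hy
  refine ⟨a, c, d, ?_⟩
  have : b - (algebraMap A B a + u' * c + v' * d) = e - (u' - u) * c - (v' - v) * d := by
    have : b = algebraMap A B a + (c * u + d * v + e) := by rw [hye]; ring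
    rw [this]; ring
  rw [this]
  exact Ideal.sub_mem _ (Ideal.sub_mem _ he (Ideal.mul_mem_right _ _ hu'))
    (Ideal.mul_mem_right _ _ hv')

/-- the step lemma -/
theorem step_aux (hres : Function.Surjective (IsLocalRing.ResidueField.map (algebraMap A B)))
    (u v : B)
    (hgen : IsLocalRing.maximalIdeal B = Ideal.span {u, v} ⊔ (IsLocalRing.maximalIdeal A).map (algebraMap A B))
    (u' v' : B) (hu' : u' - u ∈ (IsLocalRing.maximalIdeal A).map (algebraMap A B))
    (hv' : v' - v ∈ (IsLocalRing.maximalIdeal A).map (algebraMap A B)) (J : Ideal A) (w : B)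
    (hw : w ∈ J.map (algebraMap A B)) :
    ∃ (a : A) (c d : B), a ∈ J ∧ c ∈ J.map (algebraMap A B) ∧ d ∈ J.map (algebraMap A B) ∧
      w - (algebraMap A B a + u' * c + v' * d) ∈
        (J * IsLocalRing.maximalIdeal A).map (algebraMap A B) := by
  have hw' : w ∈ J • (⊤ : Submodule A B) := by
    rw [Ideal.smul_top_eq_map]; exact hw
  refine Submodule.smul_induction_on hw' ?_ ?_
  · intro α hα b _
    obtain ⟨a₀, c₀, d₀, h₀⟩ := decomp hres u v hgen u' v' hu' hv' b
    refine ⟨α * a₀, algebraMap A B α * c₀, algebraMap A B α * d₀, J.mul_mem_right _ hα,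
      Ideal.mul_mem_right _ _ (Ideal.mem_map_of_mem _ hα),
      Ideal.mul_mem_right _ _ (Ideal.mem_map_of_mem _ hα), ?_⟩
    have : α • b - (algebraMap A B (α * a₀) + u' * (algebraMap A B α * c₀) +
        v' * (algebraMap A B α * d₀)) =
        algebraMap A B α * (b - (algebraMap A B a₀ + u' * c₀ + v' * d₀)) := by
      rw [Algebra.smul_def, map_mul]; ring
    rw [this, Ideal.map_mul]
    exact Ideal.mul_mem_mul (Ideal.mem_map_of_mem _ hα) h₀
  · rintro w₁ w₂ ⟨a₁, c₁, d₁, ha₁, hc₁, hd₁, h₁⟩ ⟨a₂, c₂, d₂, ha₂, hc₂, hd₂, h₂⟩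
    refine ⟨a₁ + a₂, c₁ + c₂, d₁ + d₂, J.add_mem ha₁ ha₂, Ideal.add_mem _ hc₁ hc₂,
      Ideal.add_mem _ hd₁ hd₂, ?_⟩
    have : w₁ + w₂ - (algebraMap A B (a₁ + a₂) + u' * (c₁ + c₂) + v' * (d₁ + d₂)) =
        (w₁ - (algebraMap A B a₁ + u' * c₁ + v' * d₁)) +
        (w₂ - (algebraMap A B a₂ + u' * c₂ + v' * d₂)) := by
      rw [map_add]; ring
    rw [this]
    exact Ideal.add_mem _ h₁ h₂

/-- the state at stage `n` -/
structure State (u v : B) (n : ℕ) where
  us : B
  vs : B
  ε : A
  hu : us - u ∈ (IsLocalRing.maximalIdeal A).map (algebraMap A B)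
  hv : vs - v ∈ (IsLocalRing.maximalIdeal A).map (algebraMap A B)
  hε : ε ∈ IsLocalRing.maximalIdeal A
  hw : us * vs - algebraMap A B ε ∈ (IsLocalRing.maximalIdeal A ^ (n + 1)).map (algebraMap A B)

theorem pow_map_le_map (n : ℕ) :
    (IsLocalRing.maximalIdeal A ^ (n + 1)).map (algebraMap A B) ≤
      (IsLocalRing.maximalIdeal A).map (algebraMap A B) :=
  Ideal.map_mono (Ideal.pow_le_self (Nat.succ_ne_zero n))

theorem exists_next (hres : Function.Surjective (IsLocalRing.ResidueField.map (algebraMap A B)))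
    (u v : B)
    (hgen : IsLocalRing.maximalIdeal B = Ideal.span {u, v} ⊔ (IsLocalRing.maximalIdeal A).map (algebraMap A B))
    (n : ℕ) (s : State (A := A) u v n) :
    ∃ s' : State (A := A) u v (n + 1),
      s'.us - s.us ∈ (IsLocalRing.maximalIdeal A ^ (n + 1)).map (algebraMap A B) ∧
      s'.vs - s.vs ∈ (IsLocalRing.maximalIdeal A ^ (n + 1)).map (algebraMap A B) ∧
      s'.ε - s.ε ∈ IsLocalRing.maximalIdeal A ^ (n + 1) := by
  obtain ⟨a, c, d, ha, hc, hd, h⟩ := step_aux hres u v hgen s.us s.vs s.hu s.hv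
    (IsLocalRing.maximalIdeal A ^ (n + 1)) _ s.hw
  refine ⟨⟨s.us - d, s.vs - c, s.ε + a, ?_, ?_, ?_, ?_⟩, ?_, ?_, ?_⟩
  · have : s.us - d - u = (s.us - u) - d := by ring
    rw [this]
    exact Ideal.sub_mem _ s.hu (pow_map_le_map n hd)
  · have : s.vs - c - v = (s.vs - v) - c := by ring
    rw [this]
    exact Ideal.sub_mem _ s.hv (pow_map_le_map n hc)
  · exact Ideal.add_mem _ s.hε (Ideal.pow_le_self (Nat.succ_ne_zero n) ha)
  · have e1 : (s.us - d) * (s.vs - c) - algebraMap A B (s.ε + a) =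
        (s.us * s.vs - algebraMap A B s.ε - (algebraMap A B a + s.us * c + s.vs * d)) + c * d := by
      rw [map_add]; ring
    rw [e1]
    have hle1 : (IsLocalRing.maximalIdeal A ^ (n + 1) * IsLocalRing.maximalIdeal A).map
        (algebraMap A B) ≤ (IsLocalRing.maximalIdeal A ^ (n + 1 + 1)).map (algebraMap A B) := by
      rw [pow_succ (IsLocalRing.maximalIdeal A) (n + 1)]
    have hcd : c * d ∈ (IsLocalRing.maximalIdeal A ^ (n + 1 + 1)).map (algebraMap A B) := by
      have h2 : c * d ∈ (IsLocalRing.maximalIdeal A ^ (n + 1) *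
          IsLocalRing.maximalIdeal A ^ (n + 1)).map (algebraMap A B) := by
        rw [Ideal.map_mul]
        exact Ideal.mul_mem_mul hc hd
      refine Ideal.map_mono ?_ h2
      rw [← pow_add]
      exact Ideal.pow_le_pow_right (by omega)
    exact Ideal.add_mem _ (hle1 h) hcd
  · change s.us - d - s.us ∈ _
    have : s.us - d - s.us = -d := by ring
    rw [this]
    exact Ideal.neg_mem_iff _ |>.mpr hd
  · change s.vs - c - s.vs ∈ _
    have : s.vs - c - s.vs = -c := by ring
    rw [this]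
    exact Ideal.neg_mem_iff _ |>.mpr hc
  · change s.ε + a - s.ε ∈ _
    rw [add_sub_cancel_left]
    exact ha

theorem main7923 (hres : Function.Bijective (IsLocalRing.ResidueField.map (algebraMap A B)))
    (u v : B) (hu : u ∈ IsLocalRing.maximalIdeal B) (hv : v ∈ IsLocalRing.maximalIdeal B)
    (huv : u * v ∈ (IsLocalRing.maximalIdeal A).map (algebraMap A B))
    (hgen : IsLocalRing.maximalIdeal B = Ideal.span {u, v} ⊔ (IsLocalRing.maximalIdeal A).map (algebraMap A B)) :
    ∃ (us vs : ℕ → B) (ε : ℕ → A), us 0 = u ∧ vs 0 = v ∧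
      ∀ n : ℕ, us n ∈ IsLocalRing.maximalIdeal B ∧ vs n ∈ IsLocalRing.maximalIdeal B ∧
        ε n ∈ IsLocalRing.maximalIdeal A ∧
        us (n + 1) - us n ∈ (IsLocalRing.maximalIdeal A ^ (n + 1)).map (algebraMap A B) ∧
        vs (n + 1) - vs n ∈ (IsLocalRing.maximalIdeal A ^ (n + 1)).map (algebraMap A B) ∧
        ε (n + 1) - ε n ∈ IsLocalRing.maximalIdeal A ^ (n + 1) ∧
        us n * vs n - algebraMap A B (ε n) ∈ (IsLocalRing.maximalIdeal A ^ (n + 1)).map (algebraMap A B) := by
  classical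
  have hmAB : (IsLocalRing.maximalIdeal A).map (algebraMap A B) ≤ IsLocalRing.maximalIdeal B := by
    rw [hgen]; exact le_sup_right
  let s₀ : State (A := A) u v 0 :=
    ⟨u, v, 0, by rw [sub_self]; exact Ideal.zero_mem _, by rw [sub_self]; exact Ideal.zero_mem _,
      Ideal.zero_mem _, by rw [map_zero, sub_zero, zero_add, pow_one]; exact huv⟩
  let seq : ∀ n, State (A := A) u v n := fun n =>
    Nat.rec s₀ (fun n s => Classical.choose (exists_next hres.2 u v hgen n s)) n
  have hseq : ∀ n, seq (n + 1) = Classical.choose (exists_next hres.2 u v hgen n (seq n)) :=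
    fun n => rfl
  refine ⟨fun n => (seq n).us, fun n => (seq n).vs, fun n => (seq n).ε, rfl, rfl, ?_⟩
  intro n
  have hspec := Classical.choose_spec (exists_next hres.2 u v hgen n (seq n))
  rw [← hseq] at hspec
  refine ⟨?_, ?_, (seq n).hε, hspec.1, hspec.2.1, hspec.2.2, (seq n).hw⟩
  · have : (seq n).us = ((seq n).us - u) + u := by ring
    change (seq n).us ∈ _
    rw [this]
    exact Ideal.add_mem _ (hmAB (seq n).hu) hu
  · have : (seq n).vs = ((seq n).vs - v) + v := by ring
    change (seq n).vs ∈ _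
    rw [this]
    exact Ideal.add_mem _ (hmAB (seq n).hv) hv

end Groth.Agent.Lib.Helper5.NodeApprox
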